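import Groth.Agent.H14.GenFam.Core
import Groth.Agent.H14.GenFam.Funct
import Groth.Agent.H14.GenFam.PushApp
import Groth.Agent.H14.ModDesc.Equiv

/-!
Lifting of sections of direct images, checked on a flat affine cover of the base.
-/

set_option autoImplicit false
set_option backward.isDefEq.respectTransparency false
set_option backward.isDefEq.respectTransparency.types false
set_option linter.style.haveILetI false

universe u

open CategoryTheory CategoryTheory.Limits AlgebraicGeometry Opposite TopologicalSpace TensorProduct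
open StMod (sch bmap fibCat fibFst)
open Groth.Agent.Lib.AlgStack
open Groth.Agent.H14.ModDesc
open Groth.Agent.H14.AffPush
open Groth.Agent.H14.GenFam
open FibCat (IsFibGrpd)

namespace Groth.Agent.H14.CohDesc

variable {S : Scheme.{u}}

/-- A section of a quasi-coherent module is determined by its restrictions to affine objects. -/
theorem sect_ext {𝒳 : AlgSt.Cat S} (hfib : IsFibGrpd 𝒳.p) (F : StMod.QCoh 𝒳) {x : 𝒳.obj}
    {s t : Γ(F.obj.obj x, ⊤)}
    (h : ∀ x' (φ : x' ⟶ x), IsAffine (sch 𝒳 x') → F.obj.mapTop φ s = F.obj.mapTop φ t) : s = t := by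
  refine TopCat.Presheaf.section_ext (C := Ab) ⟨(F.obj.obj x).presheaf, (F.obj.obj x).isSheaf⟩ ⊤ _ _ fun z hz => ?_
  obtain ⟨V, hV, hzV, hVU⟩ := exists_isAffineOpen_mem_and_subset (X := sch 𝒳 x) (x := z) (U := ⊤) hz
  have : IsAffine V.toScheme := hV
  let f : Over.mk (V.ι ≫ (𝒳.p.obj x).hom) ⟶ 𝒳.p.obj x := Over.homMk V.ι
  obtain ⟨x', φ, hφ⟩ := hfib.exists_lift f
  have e : 𝒳.p.obj x' = Over.mk (V.ι ≫ (𝒳.p.obj x).hom) := IsHomLift.domain_eq 𝒳.p f φ
  have eb : bmap 𝒳 φ = (eqToHom e).left ≫ V.ι := by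
    have eg : 𝒳.p.map φ = eqToHom e ≫ f := by simpa using IsHomLift.fac' 𝒳.p f φ
    exact congrArg CommaMorphism.left eg
  haveI : IsIso (eqToHom e).left := inferInstanceAs (IsIso ((Over.forget S).map (eqToHom e)))
  haveI : IsAffine (sch 𝒳 x') := by
    show IsAffine (𝒳.p.obj x').left
    rw [e]
    exact hV
  have hle : ⊤ ≤ bmap 𝒳 φ ⁻¹ᵁ V := fun w _ => by
    show bmap 𝒳 φ w ∈ V
    rw [eb]
    exact ((eqToHom e).left w).2
  have hring : Function.Bijective ((bmap 𝒳 φ).appLE V ⊤ hle).hom := by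
    have h0 : (⊤ : V.toScheme.Opens) ≤ V.ι ⁻¹ᵁ V := by rw [Scheme.Opens.ι_preimage_self]
    have h1 : ⊤ ≤ ((eqToHom e).left ≫ V.ι) ⁻¹ᵁ V := by rw [← eb]; exact hle
    rw [appLE_congr_hom eb hle h1, appLE_comp_top _ _ h0 h1]
    exact (bijective_appTop _).comp (by
      show Function.Bijective (V.ι.appLE V ⊤ h0).hom
      rw [← Datum.toGlobal_eq]
      exact Datum.bijective_toGlobal V)
  have top : ∀ r : Γ(F.obj.obj x, ⊤), mapU F.obj φ ⊤ le_top r = F.obj.mapTop φ r := fun r => by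
    show (F.obj.obj x').presheaf.map (𝟙 _) _ = _
    rw [CategoryTheory.Functor.map_id]
    rfl
  have key : (F.obj.obj x).presheaf.map (homOfLE hVU).op s = (F.obj.obj x).presheaf.map (homOfLE hVU).op t := by
    apply ((isBC_mapU F.property φ hV hle).bijective hring).injective
    exact (mapU_res F.obj φ (U := ⊤) hVU le_top hle s).trans ((top s).trans ((h x' φ inferInstance).trans
      ((top t).symm.trans (mapU_res F.obj φ (U := ⊤) hVU le_top hle t).symm)))
  rw [← TopCat.Presheaf.germ_res_apply (F.obj.obj x).presheaf (homOfLE hVU) z hzV,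
    ← TopCat.Presheaf.germ_res_apply (F.obj.obj x).presheaf (homOfLE hVU) z hzV t]
  exact congrArg _ key

variable {𝒳 𝒴 : AlgSt.Cat S} {π : 𝒳 ⥤ᵇ 𝒴} {η : 𝒴.obj}

/-- A section of a direct image restricts along the morphisms of the category over the object. -/
theorem relSect_mapTop {𝒳 𝒴 : AlgSt.Cat S} {π : 𝒳 ⥤ᵇ 𝒴} {η : 𝒴.obj} {G : StMod.Mod 𝒳} (t : G.RelSect π η) {o' o : CostructuredArrow π.toFunctor η} (f : o' ⟶ o) :
    G.mapTop f.left (t.1 o.left o.hom) = t.1 o'.left o'.hom :=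
  (t.2 f.left o.hom).trans (congrArg (t.1 o'.left) (CostructuredArrow.w f))

theorem mapTop_fib {F : StMod.Mod 𝒳} {o' o : (fibCat π η).obj} (f : o' ⟶ o) (s : Γ(F.obj o.left, ⊤)) :
    (StMod.Mod.comap (fibFst π η) F).mapTop f s = F.mapTop f.left s :=
  mapTop_comap (fibFst π η) F f s

theorem str_bmap {C : Chart (fibCat π η)} (f : C.w ⟶ C.x) (a : Γ((𝒴.p.obj η).left, ⊤)) :
    (bmap (fibCat π η) f).appTop.hom ((str (baseFun π η) C.x).left.appTop.hom a) =
      (str (baseFun π η) C.w).left.appTop.hom a := by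
  rw [← map_str (baseFun π η) f]
  rfl

set_option maxHeartbeats 1600000 in
/-- Values at the chart lifting a section, checked after base change to a flat affine cover of the base. -/
theorem exists_chartVal (hX : IsFibGrpd 𝒳.p) {F G : StMod.QCoh 𝒳} (u : F ⟶ G) [hη : IsAffine (sch 𝒴 η)]
    (C : Chart (fibCat π η)) {J : Type u} (W : J → Over S) (g : ∀ j, W j ⟶ 𝒴.p.obj η)
    [∀ j, IsAffine (W j).left] [∀ j, Flat (g j).left] (hsurj : ∀ v, ∃ j, v ∈ Set.range (g j).left)
    (t : G.obj.RelSect π η)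
    (hlift : ∀ j, ∃ s : ∀ o : (cat (baseFun π η) (g j)).obj, Γ(F.obj.obj o.obj.left.left, ⊤),
      (∀ (o' o : (cat (baseFun π η) (g j)).obj) (f : o' ⟶ o), F.obj.mapTop f.hom.left.left (s o) = s o') ∧
      ∀ o : (cat (baseFun π η) (g j)).obj, (u.hom.app o.obj.left.left).app ⊤ (s o) = t.1 o.obj.left.left o.obj.left.hom) :
    ∃ v : Γ(F.obj.obj C.x.left, ⊤), F.obj.mapTop C.p.left v = F.obj.mapTop C.q.left v ∧
      (u.hom.app C.x.left).app ⊤ v = t.1 C.x.left C.x.hom := by
  classical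
  have hfib := isFibGrpd_fibCat hX π η
  haveI : IsAffine (𝒴.p.obj η).left := hη
  let F' : StMod.QCoh (fibCat π η) := (StMod.comapQ (fibFst π η)).obj F
  let G' : StMod.QCoh (fibCat π η) := (StMod.comapQ (fibFst π η)).obj G
  let A := Γ((𝒴.p.obj η).left, ⊤)
  let mA : ∀ o : (fibCat π η).obj, Module A Γ(G.obj.obj o.left, ⊤) := fun o =>
    Module.compHom _ (str (baseFun π η) o).left.appTop.hom
  have hAsmul : ∀ (o : (fibCat π η).obj) (a : A) (z : Γ(G.obj.obj o.left, ⊤)),
      a • z = (str (baseFun π η) o).left.appTop.hom a • z := fun _ _ _ => rfl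
  -- the possible values
  let L : Submodule A Γ(G.obj.obj C.x.left, ⊤) :=
    { carrier := {z | ∃ v : Γ(F.obj.obj C.x.left, ⊤), F.obj.mapTop C.p.left v = F.obj.mapTop C.q.left v ∧
        (u.hom.app C.x.left).app ⊤ v = z}
      add_mem' := by
        rintro _ _ ⟨v, hv, rfl⟩ ⟨w, hw, rfl⟩
        exact ⟨v + w, by rw [StMod.Mod.mapTop_add, StMod.Mod.mapTop_add, hv, hw], map_add _ _ _⟩
      zero_mem' := ⟨0, by rw [StMod.Mod.mapTop_zero, StMod.Mod.mapTop_zero], map_zero _⟩
      smul_mem' := by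
        rintro a _ ⟨v, hv, rfl⟩
        refine ⟨(show Γ(sch 𝒳 C.x.left, ⊤) from (str (baseFun π η) C.x).left.appTop.hom a) • v, ?_, ?_⟩
        · rw [StMod.Mod.mapTop_smul, StMod.Mod.mapTop_smul, hv]
          exact congrArg (· • F.obj.mapTop C.q.left v) ((str_bmap C.p a).trans (str_bmap C.q a).symm)
        · exact Scheme.Modules.Hom.app_smul (u.hom.app C.x.left) _ v }
  show t.1 C.x.left C.x.hom ∈ L
  let B : J → Type u := fun j => Γ((W j).left, ⊤)
  letI : ∀ j, Algebra A (B j) := fun j => (g j).left.appTop.hom.toAlgebra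
  haveI : ∀ j, Module.Flat A (B j) := fun j => flat_appTop (g j).left
  rw [← Submodule.Quotient.mk_eq_zero]
  refine eq_zero_of_one_tmul B (jointlySurj_appTop (fun j => (g j).left) (fun j => rfl) hsurj) _ fun j => ?_
  obtain ⟨s, hs, hus⟩ := hlift j
  let ux := up (π := baseFun π η) (g := g j) hfib C.x
  have : IsAffine (sch (fibCat π η) ux.obj.left) := isAffine_up (π := baseFun π η) (g := g j) hfib C.x
  let mB : Module (B j) Γ(G.obj.obj ux.obj.left.left, ⊤) := Module.compHom _ ux.obj.hom.left.appTop.hom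
  have hBsmul : ∀ (b : B j) (z : Γ(G.obj.obj ux.obj.left.left, ⊤)),
      b • z = ux.obj.hom.left.appTop.hom b • z := fun _ _ => rfl
  let ε := eps (π := baseFun π η) (g := g j) hfib C.x
  have hbc : @IsBC A (B j) _ _ _ _ _ (mA C.x) _ mB (algebraMap A (B j)) (mapHom G'.obj ε) :=
    isBC_of_isPushout (Lib.ZeroCyc99.FlatLocalAffine.isPushout_appTop
      (isPullback_eps (π := baseFun π η) (g := g j) hfib C.x)).flip
      (mA := mA C.x) (mB := mB) (hAsmul C.x) hBsmul (isBC_mapHom G' ε)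
  obtain ⟨Φ, hΦ⟩ := bc_extend (M := Γ(G.obj.obj C.x.left, ⊤)) (N := Γ(G.obj.obj ux.obj.left.left, ⊤))
    (N' := B j ⊗[A] (Γ(G.obj.obj C.x.left, ⊤) ⧸ L)) hbc
    ((TensorProduct.mk A (B j) _ 1).comp L.mkQ).toAddMonoidHom (fun a z => by
      show (1 : B j) ⊗ₜ[A] L.mkQ (a • z) = algebraMap A (B j) a • ((1 : B j) ⊗ₜ[A] L.mkQ z)
      rw [map_smul, tmul_smul, algebraMap_smul])
  let ΦU : Γ(F.obj.obj ux.obj.left.left, ⊤) → B j ⊗[A] (Γ(G.obj.obj C.x.left, ⊤) ⧸ L) :=
    fun z => Φ ((u.hom.app ux.obj.left.left).app ⊤ z)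
  have key : ΦU (s ux) = 0 := by
    refine mem_span_sol (π := baseFun π η) (g := g j) hfib C F' (n := 1) (m := 0) Fin.elim0 (fun _ _ => 1)
      (fun _ => s ux) (fun k => Fin.elim0 k) (fun k => ?_) (fun v => ΦU (v 0) = 0) ?_ ?_ ?_ ?_
    · rw [Fin.sum_univ_one, map_one, one_smul]
      refine (mapTop_fib _ _).trans (Eq.trans ?_ (mapTop_fib _ _).symm)
      exact (hs _ _ (upMap (π := baseFun π η) (g := g j) hfib C.p)).trans
        (hs _ _ (upMap (π := baseFun π η) (g := g j) hfib C.q)).symm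
    · show Φ _ = 0
      rw [Pi.zero_apply, map_zero, map_zero]
    · intro a b ha hb
      show Φ ((u.hom.app ux.obj.left.left).app ⊤ (a 0 + b 0)) = 0
      rw [map_add, map_add]
      exact (congrArg₂ (· + ·) ha hb).trans (add_zero _)
    · intro b a ha
      show Φ ((u.hom.app ux.obj.left.left).app ⊤ (ux.obj.hom.left.appTop.hom b • a 0)) = 0
      rw [Scheme.Modules.Hom.app_smul, ← hBsmul, map_smul]
      exact (congrArg (b • ·) ha).trans (smul_zero b)
    · intro v _ hv
      have hv' := hv 0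
      rw [Fin.sum_univ_one, one_smul] at hv'
      replace hv' := (mapTop_fib (F := F.obj) C.p (v 0)).symm.trans (hv'.trans (mapTop_fib (F := F.obj) C.q (v 0)))
      show Φ ((u.hom.app ux.obj.left.left).app ⊤ (F'.obj.mapTop ε (v 0))) = 0
      refine (congrArg Φ ((congrArg _ (mapTop_fib (F := F.obj) ε (v 0))).trans
        ((StMod.Mod.mapTop_app u.hom ε.left (v 0)).symm.trans
          (mapTop_fib (F := G.obj) ε ((u.hom.app C.x.left).app ⊤ (v 0))).symm))).trans ?_
      refine (hΦ ((u.hom.app C.x.left).app ⊤ (v 0))).trans ?_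
      show (1 : B j) ⊗ₜ[A] L.mkQ _ = 0
      rw [Submodule.mkQ_apply, (Submodule.Quotient.mk_eq_zero L).2 ⟨v 0, hv', rfl⟩, tmul_zero]
  have e : (u.hom.app ux.obj.left.left).app ⊤ (s ux) = mapHom G'.obj ε (t.1 C.x.left C.x.hom) :=
    (hus ux).trans ((relSect_mapTop t ε).symm.trans (mapTop_fib (F := G.obj) ε _).symm)
  exact (hΦ (t.1 C.x.left C.x.hom)).symm.trans ((congrArg Φ e).symm.trans key)

set_option maxHeartbeats 1600000 in
/-- A value at the chart satisfying the overlap condition extends to a section. -/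
theorem exists_relSect_of_chartVal (hX : IsFibGrpd 𝒳.p) {F G : StMod.QCoh 𝒳} (u : F ⟶ G)
    (C : Chart (fibCat π η)) (t : G.obj.RelSect π η) (v : Γ(F.obj.obj C.x.left, ⊤))
    (hv : F.obj.mapTop C.p.left v = F.obj.mapTop C.q.left v)
    (huv : (u.hom.app C.x.left).app ⊤ v = t.1 C.x.left C.x.hom) :
    ∃ s : F.obj.RelSect π η, StMod.Mod.relSectMap π u.hom η s = t := by
  have hfib := isFibGrpd_fibCat hX π η
  let F' : StMod.QCoh (fibCat π η) := (StMod.comapQ (fibFst π η)).obj F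
  let G' : StMod.QCoh (fibCat π η) := (StMod.comapQ (fibFst π η)).obj G
  obtain ⟨ψ, hψ⟩ := Chart.exists_hom hfib C (StMod.OQ (fibCat π η)) F' (n := 1) (fun _ => oneO _ C.x)
    (Submodule.eq_top_iff'.2 fun z => by
      rw [← smul_oneO z]
      exact Submodule.smul_mem _ _ (Submodule.subset_span ⟨0, rfl⟩))
    (fun _ => v)
    (fun c hc => by
      rw [Fin.sum_univ_one] at hc ⊢
      have hc0 : c 0 = 0 := (mul_one (c 0)).symm.trans hc
      rw [hc0, zero_smul])
    (fun _ _ => 1)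
    (fun _ => by
      rw [Fin.sum_univ_one, one_smul]
      exact (oneO_mapTop C.p).trans (oneO_mapTop C.q).symm)
    (fun _ => by
      rw [Fin.sum_univ_one, one_smul]
      exact (mapTop_fib (F := F.obj) C.p v).trans (hv.trans (mapTop_fib (F := F.obj) C.q v).symm))
  let σ : ∀ o : (fibCat π η).obj, Γ(F.obj.obj o.left, ⊤) := fun o => (ψ.app o).app ⊤ (oneO _ o)
  have hσ : ∀ {o' o : (fibCat π η).obj} (f : o' ⟶ o), F.obj.mapTop f.left (σ o) = σ o' := fun {o' o} f => by
    refine (mapTop_fib (F := F.obj) f (σ o)).symm.trans ?_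
    show F'.obj.mapTop f ((ψ.app o).app ⊤ (oneO _ o)) = (ψ.app o').app ⊤ (oneO _ o')
    rw [StMod.Mod.mapTop_app, oneO_mapTop]
  refine ⟨⟨fun ξ α => σ (CostructuredArrow.mk α), fun ξ' ξ φ α => hσ
    (o' := CostructuredArrow.mk (π.map φ ≫ α)) (o := CostructuredArrow.mk α) (CostructuredArrow.homMk φ rfl)⟩, ?_⟩
  refine StMod.Mod.RelSect.ext _ _ _ fun ξ α => ?_
  show (u.hom.app ξ).app ⊤ (σ (CostructuredArrow.mk α)) = t.1 ξ α
  have haff : ∀ (o : (fibCat π η).obj), IsAffine (sch (fibCat π η) o) →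
      (u.hom.app o.left).app ⊤ (σ o) = t.1 o.left o.hom := fun o ho => by
    obtain ⟨n, D, hD⟩ := C.cover o ho
    refine D.eq_of_mapTop G' fun j => (mapTop_fib (F := G.obj) _ _).trans
      (Eq.trans ?_ (mapTop_fib (F := G.obj) _ _).symm)
    rw [StMod.Mod.mapTop_app, hσ, relSect_mapTop t, ← hσ (hD j).some, ← relSect_mapTop t (hD j).some,
      ← StMod.Mod.mapTop_app]
    exact congrArg _ ((congrArg ((u.hom.app C.x.left).app ⊤) (hψ 0)).trans huv)
  refine sect_ext hfib G' (x := CostructuredArrow.mk α) fun o f ho => (mapTop_fib (F := G.obj) f _).trans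
    (Eq.trans ?_ (mapTop_fib (F := G.obj) f _).symm)
  exact ((StMod.Mod.mapTop_app u.hom f.left (σ (CostructuredArrow.mk α))).trans (congrArg _ (hσ f))).trans
    ((haff o ho).trans (relSect_mapTop t f).symm)

/-- If, after restriction to each member of a flat affine cover of an affine base, a section lifts along `u`, then it lifts. -/
theorem exists_lift_of_cover (hX : IsFibGrpd 𝒳.p) {F G : StMod.QCoh 𝒳} (u : F ⟶ G) [IsAffine (sch 𝒴 η)]
    (C : Chart (fibCat π η)) {J : Type u} (W : J → Over S) (g : ∀ j, W j ⟶ 𝒴.p.obj η)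
    [∀ j, IsAffine (W j).left] [∀ j, Flat (g j).left] (hsurj : ∀ v, ∃ j, v ∈ Set.range (g j).left)
    (t : G.obj.RelSect π η)
    (hlift : ∀ j, ∃ s : ∀ o : (cat (baseFun π η) (g j)).obj, Γ(F.obj.obj o.obj.left.left, ⊤),
      (∀ (o' o : (cat (baseFun π η) (g j)).obj) (f : o' ⟶ o), F.obj.mapTop f.hom.left.left (s o) = s o') ∧
      ∀ o : (cat (baseFun π η) (g j)).obj, (u.hom.app o.obj.left.left).app ⊤ (s o) = t.1 o.obj.left.left o.obj.left.hom) :
    ∃ s : F.obj.RelSect π η, StMod.Mod.relSectMap π u.hom η s = t :=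
  let ⟨v, hv, huv⟩ := exists_chartVal hX u C W g hsurj t hlift
  exists_relSect_of_chartVal hX u C t v hv huv

end Groth.Agent.H14.CohDesc
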