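import Groth.Agent.H14.CohDesc.Unit

/-!
The unit of a direct image is bijective if it is so over affine schemes of the small etale site.
-/

set_option autoImplicit false
set_option backward.isDefEq.respectTransparency false
set_option backward.isDefEq.respectTransparency.types false
set_option linter.style.haveILetI false

universe u

open CategoryTheory CategoryTheory.Limits AlgebraicGeometry Opposite TopologicalSpace
open StMod (sch bmap fibCat fibFst etaOf baseOver)
open Groth.Agent.Lib Groth.Agent.Lib.AlgStack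
open Groth.Agent.H14.GenFam
open FibCat (IsFibGrpd)
open AlgSt (IsAlgStack ofSp ofSpMap)

namespace Groth.Agent.H14.CohDesc

theorem res_res {X : Scheme.{u}} {U V W : X.Opensᵒᵖ} (a : U ⟶ V) (b : V ⟶ W) (c : U ⟶ W) (r : X.presheaf.obj U) :
    X.presheaf.map b (X.presheaf.map a r) = X.presheaf.map c r := by
  rw [← ConcreteCategory.comp_apply, ← Functor.map_comp, Subsingleton.elim (a ≫ b) c]

variable {S : Scheme.{u}} {𝒳 : AlgSt.Cat S} {M : AlgSp.Sp S} (π : 𝒳 ⥤ᵇ ofSp M) (E : AlgSp.EtOver M)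

/-- The inclusion of an open subscheme over the base. -/
def openHom (V : E.obj.left.left.Opens) : Over.mk (V.ι ≫ E.obj.left.hom) ⟶ E.obj.left := Over.homMk V.ι

/-- An open subscheme of a member of the small etale site. -/
noncomputable def openEt (V : E.obj.left.left.Opens) : AlgSp.EtOver M :=
  AlgSp.EtOver.mk (U := Over.mk (V.ι ≫ E.obj.left.hom))
    ((AlgSp.yon S).map (openHom E V) ≫ E.obj.hom)
    (AlgSpace.repWith_yon_map_comp (show Etale V.ι from inferInstance) E.property)

/-- Its inclusion. -/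
noncomputable def openIncl (V : E.obj.left.left.Opens) : etaOf (openEt E V) ⟶ etaOf E :=
  ⟨openHom E V, (AlgSp.J S).map_uliftYonedaEquiv E.obj.hom (openHom E V)⟩

theorem unit_res {r : Γ(E.obj.left.left, ⊤)} (V : E.obj.left.left.Opens) (ξ : 𝒳.obj)
    (α : π.obj ξ ⟶ etaOf (openEt E V)) :
    (baseOver π ξ α).left.appTop (V.ι.appTop r) = (baseOver π ξ (α ≫ openIncl E V)).left.appTop r := by
  refine (appTop_comp_apply _ _ _).trans ?_
  congr 3

/-- The restriction of a section to an open subscheme. -/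
noncomputable def resSect (t : (StMod.O 𝒳).RelSect π (etaOf E)) (V : E.obj.left.left.Opens) :
    (StMod.O 𝒳).RelSect π (etaOf (openEt E V)) :=
  ⟨fun ξ α => t.1 ξ (α ≫ openIncl E V), fun ξ' ξ φ α =>
    (t.2 φ _).trans (congrArg (t.1 ξ') (Category.assoc _ _ _).symm)⟩

variable {π E}

theorem eq_of_affine_restrict {X : Scheme.{u}} {r r' : Γ(X, ⊤)}
    (h : ∀ V : X.affineOpens, V.1.ι.appTop r = V.1.ι.appTop r') : r = r' := by
  refine TopCat.Sheaf.eq_of_locally_eq' X.sheaf (fun V : X.affineOpens => V.1) ⊤ (fun _ => homOfLE le_top) ?_ r r'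
    fun V => ?_
  · rw [iSup_affineOpens_eq_top X]
  · have e := h V
    rw [Scheme.Opens.ι_appTop] at e
    apply (ConcreteCategory.bijective_of_isIso V.1.topIso.inv).injective
    exact (res_res _ _ _ r).trans (e.trans (res_res _ _ _ r').symm)

variable (π E) in
/-- Bijectivity over all affine schemes gives bijectivity. -/
theorem unitBijective_of_affine (hX : IsFibGrpd 𝒳.p)
    (h : ∀ E : AlgSp.EtOver M, IsAffine E.obj.left.left → Function.Bijective (StMod.unitSect π (etaOf E))) :
    Function.Bijective (StMod.unitSect π (etaOf E)) := by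
  have hopen : ∀ V : E.obj.left.left.affineOpens, Function.Bijective (StMod.unitSect π (etaOf (openEt E V.1))) :=
    fun V => h _ V.2
  refine ⟨(injective_iff_map_eq_zero _).2 fun (r : Γ(E.obj.left.left, ⊤)) hr => ?_, fun t => ?_⟩
  · refine eq_of_affine_restrict fun V => (hopen V).1 ?_
    refine StMod.Mod.RelSect.ext _ _ _ fun ξ α => ?_
    show (baseOver π ξ α).left.appTop (V.1.ι.appTop r) = (baseOver π ξ α).left.appTop (V.1.ι.appTop 0)
    rw [unit_res, unit_res]
    exact (congrArg (fun k : (StMod.O 𝒳).RelSect π (etaOf E) => k.1 ξ (α ≫ openIncl E V.1)) hr).trans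
      (map_zero _).symm
  choose rV hrV using fun V : E.obj.left.left.affineOpens => (hopen V).2 (resSect π E t V.1)
  let s : ∀ V : E.obj.left.left.affineOpens, Γ(E.obj.left.left, V.1) := fun V => V.1.topIso.hom (rV V)
  have hcompat : ∀ (V W : E.obj.left.left.affineOpens) (hle : W.1 ≤ V.1),
      E.obj.left.left.presheaf.map (homOfLE hle).op (s V) = s W := by
    intro V W hle
    apply (ConcreteCategory.bijective_of_isIso W.1.topIso.inv).injective
    have e2 : W.1.topIso.inv (s W) = rV W := Iso.hom_inv_id_apply W.1.topIso (rV W)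
    rw [e2]
    have e1 : W.1.topIso.inv (E.obj.left.left.presheaf.map (homOfLE hle).op (s V)) =
        (E.obj.left.left.homOfLE hle).appTop (rV V) := by
      rw [Scheme.homOfLE_appTop]
      show E.obj.left.left.presheaf.map _ (E.obj.left.left.presheaf.map _ (E.obj.left.left.presheaf.map _ (rV V))) = _
      refine (congrArg _ (res_res (X := E.obj.left.left) _ _ ((eqToIso V.1.ι_image_top.symm).op.hom ≫ (homOfLE hle).op) (rV V))).trans ?_
      exact res_res (X := E.obj.left.left) _ _ _ (rV V)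
    rw [e1]
    apply (hopen W).1
    refine StMod.Mod.RelSect.ext _ _ _ fun ξ α => ?_
    let i : etaOf (openEt E W.1) ⟶ etaOf (openEt E V.1) :=
      ⟨Over.homMk (E.obj.left.left.homOfLE hle) (by
        show E.obj.left.left.homOfLE hle ≫ V.1.ι ≫ E.obj.left.hom = W.1.ι ≫ E.obj.left.hom
        rw [Scheme.homOfLE_ι_assoc]), by
        rw [← (openIncl E V.1).map_sec, ← (openIncl E W.1).map_sec]
        erw [map_map M]
        refine congrArg (fun k : Over.mk (W.1.ι ≫ E.obj.left.hom) ⟶ E.obj.left => M.obj.map k.op (etaOf E).sec) ?_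
        refine Over.OverMorphism.ext ?_
        exact Scheme.homOfLE_ι _ hle⟩
    have hi : i ≫ openIncl E V.1 = openIncl E W.1 :=
      Stk.EltObj.hom_ext (Over.OverMorphism.ext (show (E.obj.left.left.homOfLE hle) ≫ V.1.ι = W.1.ι from Scheme.homOfLE_ι _ hle))
    have a := congrArg (fun k : (StMod.O 𝒳).RelSect π (etaOf (openEt E V.1)) => k.1 ξ (α ≫ i)) (hrV V)
    have b := congrArg (fun k : (StMod.O 𝒳).RelSect π (etaOf (openEt E W.1)) => k.1 ξ α) (hrV W)
    refine Eq.trans ?_ ((a.trans (congrArg (t.1 ξ) ((Category.assoc α i _).trans (congrArg (α ≫ ·) hi)))).trans b.symm)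
    refine (appTop_comp_apply _ _ _).trans ?_
    congr 3
  obtain ⟨r, hr, -⟩ := TopCat.Sheaf.existsUnique_gluing' E.obj.left.left.sheaf
    (fun V : E.obj.left.left.affineOpens => V.1) ⊤ (fun _ => homOfLE le_top)
    (by rw [iSup_affineOpens_eq_top E.obj.left.left]) s (fun V V' => by
      refine TopCat.Sheaf.eq_of_locally_eq' E.obj.left.left.sheaf
        (fun W : {W : E.obj.left.left.affineOpens // W.1 ≤ V.1 ⊓ V'.1} => W.1.1) (V.1 ⊓ V'.1)
        (fun W => homOfLE W.2) (fun x hx => ?_) _ _ fun W => ?_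
      · obtain ⟨W, hW, hxW, hWU⟩ := exists_isAffineOpen_mem_and_subset (X := E.obj.left.left) (U := V.1 ⊓ V'.1) hx
        exact Opens.mem_iSup.2 ⟨⟨⟨W, hW⟩, hWU⟩, hxW⟩
      · refine ((ConcreteCategory.comp_apply _ _ _).symm.trans ?_).trans (ConcreteCategory.comp_apply _ _ _)
        rw [← Functor.map_comp, ← Functor.map_comp]
        exact (hcompat V W.1 (W.2.trans inf_le_left)).trans (hcompat V' W.1 (W.2.trans inf_le_right)).symm)
  have hr' : ∀ V : E.obj.left.left.affineOpens, V.1.ι.appTop r = rV V := fun V => by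
    rw [Scheme.Opens.ι_appTop]
    refine Eq.trans ?_ ((congrArg V.1.topIso.inv (hr V)).trans (Iso.hom_inv_id_apply V.1.topIso (rV V)))
    exact (res_res _ _ _ r).symm
  refine ⟨r, StMod.Mod.RelSect.ext _ _ _ fun ξ α => ?_⟩
  refine sect_ext hX (StMod.OQ 𝒳) fun o k ho => ?_
  -- affine opens over the opens of the base
  let f : sch 𝒳 o ⟶ E.obj.left.left := bmap 𝒳 k ≫ (baseOver π ξ α).left
  let J := Σ V : E.obj.left.left.affineOpens, {W : (sch 𝒳 o).affineOpens // W.1 ≤ f ⁻¹ᵁ V.1}
  choose x φ e he using fun j : J => exists_obj hX o j.2.1.1.ι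
  let D : Cover o J :=
    { E := x
      aff := fun j => have : IsAffine j.2.1.1.toScheme := j.2.1.2; IsAffine.of_isIso (e j).hom
      e := φ
      flat := fun j => by rw [he]; infer_instance
      surj := fun z => by
        obtain ⟨V, hV, hzV, -⟩ := exists_isAffineOpen_mem_and_subset (X := E.obj.left.left) (U := ⊤) (x := f z) trivial
        obtain ⟨W, hW, hzW, hWV⟩ := exists_isAffineOpen_mem_and_subset (X := sch 𝒳 o) (U := f ⁻¹ᵁ V) (x := z) hzV
        refine ⟨⟨⟨V, hV⟩, ⟨W, hW⟩, hWV⟩, (e _).inv ⟨z, hzW⟩, ?_⟩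
        rw [he, ← Scheme.Hom.comp_apply, Iso.inv_hom_id_assoc]
        rfl }
  haveI : IsAffine (sch 𝒳 o) := ho
  refine D.eq_of_mapTop (StMod.OQ 𝒳) fun j => ?_
  obtain ⟨V, W, hWV⟩ := j
  let j : J := ⟨V, W, hWV⟩
  let α' : π.obj (x j) ⟶ etaOf E := π.map (φ j ≫ k) ≫ α
  have hb : (baseOver π (x j) α').left = (e j).hom ≫ W.1.ι ≫ f := by
    show (baseOver π (x j) (π.map (φ j ≫ k) ≫ α)).left = _
    rw [← StMod.bmap_comp_baseOver_left, StMod.bmap_comp, he, Category.assoc, Category.assoc]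
  have hl : ∀ z, f (W.1.ι z) ∈ V.1 := fun z => hWV z.2
  let l : sch 𝒳 (x j) ⟶ V.1.toScheme := (e j).hom ≫ IsOpenImmersion.lift V.1.ι (W.1.ι ≫ f) (by
    rw [Scheme.Opens.range_ι]
    rintro _ ⟨z, rfl⟩
    exact hl z)
  have hlι : l ≫ V.1.ι = (baseOver π (x j) α').left := by
    rw [hb, Category.assoc, IsOpenImmersion.lift_fac]
  let b : 𝒳.p.obj (x j) ⟶ Over.mk (V.1.ι ≫ E.obj.left.hom) := Over.homMk l (by
    show l ≫ V.1.ι ≫ E.obj.left.hom = _
    rw [← Category.assoc, hlι]
    exact Over.w (baseOver π (x j) α'))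
  let β : π.obj (x j) ⟶ etaOf (openEt E V.1) := ⟨eqToHom (π.w_obj (x j)) ≫ b, by
    rw [← (openIncl E V.1).map_sec]
    erw [map_map M]
    refine Eq.trans ?_ α'.map_sec
    refine congrArg (fun k : (π.obj (x j)).base ⟶ E.obj.left => M.obj.map k.op (etaOf E).sec) ?_
    have : b ≫ openHom E V.1 = baseOver π (x j) α' := Over.OverMorphism.ext hlι
    show (eqToHom (π.w_obj (x j)) ≫ b) ≫ openHom E V.1 = α'.hom
    rw [Category.assoc, this]
    simp [StMod.baseOver]
    ⟩
  have hβ : β ≫ openIncl E V.1 = α' := Stk.EltObj.hom_ext (by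
    have : b ≫ openHom E V.1 = baseOver π (x j) α' := Over.OverMorphism.ext hlι
    show (eqToHom (π.w_obj (x j)) ≫ b) ≫ openHom E V.1 = α'.hom
    rw [Category.assoc, this]
    simp [StMod.baseOver]
    )
  have key : (baseOver π (x j) α').left.appTop r = t.1 (x j) α' := by
    have a := congrArg (fun k : (StMod.O 𝒳).RelSect π (etaOf (openEt E V.1)) => k.1 (x j) β) (hrV V)
    change (baseOver π (x j) β).left.appTop (rV V) = t.1 (x j) (β ≫ openIncl E V.1) at a
    rw [← hr', unit_res, hβ] at a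
    exact a
  refine ((StMod.Mod.mapTop_comp (StMod.O 𝒳) (φ j) k _).symm.trans ?_).trans
    (StMod.Mod.mapTop_comp (StMod.O 𝒳) (φ j) k _)
  refine Eq.trans ?_ (key.trans (t.2 (φ j ≫ k) α).symm)
  exact (StMod.unitSect π (etaOf E) r).2 (φ j ≫ k) α

/-- Good moduli spaces descend along flat surjective morphisms of algebraic spaces. -/
theorem isGoodModuli_of_flat_surjective {M M' : AlgSp.Space S} (g : M'.obj ⟶ M.obj) (hgf : AlgSp.LocP @Flat g)
    (hgs : AlgSp.IsSurjectiveMor g) (π : 𝒳 ⥤ᵇ ofSp M.obj) (h𝒳 : IsAlgStack Scheme.fppfPrecoverage 𝒳)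
    (hqc : AlgSt.IsQuasiCompactMor Scheme.fppfPrecoverage π) (hqs : AlgSt.IsQuasiSeparatedMor π)
    (h' : StMod.IsGoodModuli (FibCat.fpFst (ofSpMap g) π)) : StMod.IsGoodModuli π := by
  refine ⟨isCohAffine_of_flat_surjective g hgf hgs π h𝒳 hqc hqs h'.1, fun E =>
    unitBijective_of_affine π E h𝒳.isStack.1 fun E hE => ?_⟩
  obtain ⟨U, p, hp, hps⟩ := M'.property.atlas
  obtain ⟨J, E', h, hw, haff, hflat, hsurj⟩ := exists_covers g p hp (fun y => by
      obtain ⟨y', rfl⟩ := hgs y
      obtain ⟨u, rfl⟩ := AlgSpace.surjective_ofPt hps y'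
      exact ⟨u, (AlgSp.Points.map_ofPt _ _ _).symm⟩) E fun V k v hv sq =>
    hgf ((AlgSp.yon S).map v ≫ p) E.obj.hom k (AlgSpace.repWith_yon_map_comp hv hp) E.property
      ((Category.assoc _ _ _).trans sq.w.symm)
  exact unitBijective_of_covers g π E h𝒳 (IsAlg.isAlgStack_ofSp M) hqc hqs h'.2 hE E' h hw haff hflat hsurj

end Groth.Agent.H14.CohDesc
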