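import Groth.Agent.H14.CohDesc.Core
import Groth.Agent.H14.GenFam.Transport
import Groth.Agent.Lib.AlgStack.IsAlg
import Groth.Agent.Lib.AlgSpace.Points
import Groth.Prelude.Def_StMod2

/-!
Cohomological affinity descends along flat surjective morphisms of the base.
-/

set_option autoImplicit false
set_option backward.isDefEq.respectTransparency false
set_option backward.isDefEq.respectTransparency.types false
set_option linter.style.haveILetI false

universe u

open CategoryTheory CategoryTheory.Limits AlgebraicGeometry Opposite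
open StMod (sch bmap fibCat fibFst etaOf)
open Groth.Agent.Lib Groth.Agent.Lib.AlgStack
open Groth.Agent.H14.ModDesc
open Groth.Agent.H14.AffPush
open Groth.Agent.H14.GenFam
open FibCat (IsFibGrpd fp fpFst fpSnd)
open AlgSt (IsAlgStack ofSp ofSpMap)

namespace Groth.Agent.H14.CohDesc

variable {S : Scheme.{u}} {𝒳 : AlgSt.Cat S} {M M' : AlgSp.Sp S} (g : M' ⟶ M) (π : 𝒳 ⥤ᵇ ofSp M)
  (E : AlgSp.EtOver M) (E' : AlgSp.EtOver M') (h : E'.obj.left ⟶ E.obj.left)

theorem map_map (F : AlgSp.Sp S) {T T' T'' : Over S} (a : T'' ⟶ T') (b : T' ⟶ T) (x : F.obj.obj (op T)) :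
    F.obj.map a.op (F.obj.map b.op x) = F.obj.map (a ≫ b).op x := by
  rw [op_comp, Functor.map_comp]
  rfl

variable (hw : E'.obj.hom ≫ g = (AlgSp.yon S).map h ≫ E.obj.hom)

include hw in
theorem sec_comm : g.hom.app _ (etaOf E').sec = M.obj.map h.op (etaOf E).sec := by
  refine ((AlgSp.J S).uliftYonedaEquiv_comp E'.obj.hom g).symm.trans ?_
  rw [hw]
  exact ((AlgSp.J S).map_uliftYonedaEquiv E.obj.hom h).symm

/-- The morphism of objects under the morphism of schemes. -/
noncomputable def etaMap : (ofSpMap g).obj (etaOf E') ⟶ etaOf E := ⟨h, (sec_comm g E E' h hw).symm⟩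

variable (o : (cat (baseFun π (etaOf E)) h).obj)

/-- The object of the base change under an object over the cover. -/
noncomputable def pairBase : (ofSp M').obj :=
  ⟨𝒳.p.obj o.obj.left.left, M'.obj.map (show 𝒳.p.obj o.obj.left.left ⟶ E'.obj.left from o.obj.hom).op (etaOf E').sec⟩

/-- Its morphism to the member of the cover. -/
noncomputable def pairArr : pairBase π E E' h o ⟶ etaOf E' := ⟨o.obj.hom, rfl⟩

theorem pair_base_eq :
    (show 𝒳.p.obj o.obj.left.left ⟶ E'.obj.left from o.obj.hom) ≫ h =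
      StMod.baseOver π o.obj.left.left o.obj.left.hom :=
  o.property.trans (str_baseFun π (etaOf E) o.obj.left)

/-- The morphism of the target relating the two components. -/
noncomputable def pairHom : (ofSpMap g).obj (pairBase π E E' h o) ⟶ π.obj o.obj.left.left :=
  ⟨eqToHom (π.w_obj o.obj.left.left).symm, by
    let ξ := o.obj.left.left
    let z : 𝒳.p.obj ξ ⟶ E'.obj.left := o.obj.hom
    show M.obj.map (eqToHom (π.w_obj ξ).symm).op (π.obj ξ).sec = g.hom.app _ (M'.obj.map z.op (etaOf E').sec)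
    rw [← o.obj.left.hom.map_sec, NatTrans.naturality_apply]
    erw [sec_comm g E E' h hw]
    erw [map_map M, map_map M]
    exact congrArg (fun k => M.obj.map k.op (etaOf E).sec) (pair_base_eq π E E' h o).symm⟩

/-- The inverse morphism. -/
noncomputable def pairInv : π.obj o.obj.left.left ⟶ (ofSpMap g).obj (pairBase π E E' h o) :=
  ⟨eqToHom (π.w_obj o.obj.left.left), by
    rw [← (pairHom g π E E' h hw o).map_sec]
    erw [map_map M]
    simp [pairHom]⟩

/-- The object of the 2-fibre product. -/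
noncomputable def pairObj : (fp (ofSpMap g) π).obj :=
  ⟨{ fst := pairBase π E E' h o
     snd := o.obj.left.left
     iso :=
      { hom := pairHom g π E E' h hw o
        inv := pairInv g π E E' h hw o
        hom_inv_id := Stk.EltObj.hom_ext (by simp [pairHom, pairInv])
        inv_hom_id := Stk.EltObj.hom_ext (by simp [pairHom, pairInv]) } },
   IsHomLift.of_fac' (ofSp M).p _ _ rfl (π.w_obj _) (by
     show eqToHom (π.w_obj o.obj.left.left).symm = _
     simp)⟩

variable {o' : (cat (baseFun π (etaOf E)) h).obj} (f : o' ⟶ o)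

/-- The morphism of first components. -/
noncomputable def pairBaseMap : pairBase π E E' h o' ⟶ pairBase π E E' h o :=
  ⟨𝒳.p.map f.hom.left.left, by
    show M'.obj.map _ (M'.obj.map _ _) = M'.obj.map _ _
    erw [map_map M']
    exact congrArg (fun k => M'.obj.map k.op (etaOf E').sec) (CostructuredArrow.w f.hom)⟩

/-- The morphism of the 2-fibre product. -/
noncomputable def pairMap : pairObj g π E E' h hw o' ⟶ pairObj g π E E' h hw o :=
  ObjectProperty.homMk
    { fst := pairBaseMap π E E' h o f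
      snd := f.hom.left.left
      w := Stk.EltObj.hom_ext (by
        show 𝒳.p.map f.hom.left.left ≫ eqToHom (π.w_obj o.obj.left.left).symm =
          eqToHom (π.w_obj o'.obj.left.left).symm ≫ (ofSp M).p.map (π.map f.hom.left.left)
        haveI : 𝒳.p.IsHomLift (𝒳.p.map f.hom.left.left) f.hom.left.left := IsHomLift.map 𝒳.p _
        haveI := BasedFunctor.preserves_isHomLift π (𝒳.p.map f.hom.left.left) f.hom.left.left
        rw [IsHomLift.fac' (ofSp M).p (𝒳.p.map f.hom.left.left) (π.map f.hom.left.left)]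
        simp) }

omit o o' f

theorem castTop_self {T : Scheme.{u}} (M₀ : T.Modules) (x : Γ(M₀, ⊤)) (h : T = T) :
    castTop h M₀ x = x := rfl

include hw in
/-- The lift over a member of the cover. -/
theorem exists_pair_lift {F G : StMod.QCoh 𝒳} (u : F ⟶ G) (hu : StMod.Mod.IsSurj u.hom)
    (h' : StMod.IsCohAffine (fpFst (ofSpMap g) π)) (hE' : IsAffine E'.obj.left.left)
    (t : G.obj.RelSect π (etaOf E)) :
    ∃ s : ∀ o : (cat (baseFun π (etaOf E)) h).obj, Γ(F.obj.obj o.obj.left.left, ⊤),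
      (∀ (o' o : (cat (baseFun π (etaOf E)) h).obj) (f : o' ⟶ o), F.obj.mapTop f.hom.left.left (s o) = s o') ∧
      ∀ o : (cat (baseFun π (etaOf E)) h).obj,
        (u.hom.app o.obj.left.left).app ⊤ (s o) = t.1 o.obj.left.left o.obj.left.hom := by
  let q := fpSnd (ofSpMap g) π
  let a : ∀ (P : (fp (ofSpMap g) π).obj), (P.obj.fst ⟶ etaOf E') → (π.obj P.obj.snd ⟶ etaOf E) := fun P α =>
    P.obj.iso.inv ≫ (ofSpMap g).map α ≫ etaMap g E E' h hw
  let t' : ((StMod.comapQ q).obj G).obj.RelSect (fpFst (ofSpMap g) π) (etaOf E') :=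
    ⟨fun P α => castTop (StMod.sch_obj_eq q P) _ (t.1 P.obj.snd (a P α)), fun P' P φ α => by
      refine (mapTop_comap q G.obj φ _).trans (congrArg _ ?_)
      refine (t.2 φ.hom.snd (a P α)).trans (congrArg (t.1 P'.obj.snd) ?_)
      show π.map φ.hom.snd ≫ P.obj.iso.inv ≫ (ofSpMap g).map α ≫ etaMap g E E' h hw =
        P'.obj.iso.inv ≫ (ofSpMap g).map (φ.hom.fst ≫ α) ≫ etaMap g E E' h hw
      rw [Functor.map_comp, Category.assoc, ← Category.assoc]
      conv_rhs => rw [← Category.assoc]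
      congr 1
      rw [Iso.eq_inv_comp, ← Category.assoc, Iso.comp_inv_eq]
      exact φ.hom.w.symm⟩
  have hu' : StMod.Mod.IsSurj ((StMod.comapQ q).map u).hom := fun P hP z => by
    haveI : IsAffine (sch 𝒳 (q.obj P)) := by
      rw [StMod.sch_obj_eq q P]
      exact hP
    obtain ⟨z', rfl⟩ := (castTop_bijective (StMod.sch_obj_eq q P) _).surjective z
    obtain ⟨w, rfl⟩ := hu (q.obj P) inferInstance z'
    exact ⟨castTop (StMod.sch_obj_eq q P) _ w, castTop_castHom _ _ _⟩
  obtain ⟨s', hs'⟩ := h' ((StMod.comapQ q).map u) hu' E' hE' t'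
  refine ⟨fun o => s'.1 (pairObj g π E E' h hw o) (pairArr π E E' h o), fun o' o f => ?_, fun o => ?_⟩
  · refine Eq.trans ?_ ((s'.2 (pairMap g π E E' h hw o f) (pairArr π E E' h o)).trans
      (congrArg (s'.1 (pairObj g π E E' h hw o')) (Stk.EltObj.hom_ext (CostructuredArrow.w f.hom))))
    exact (mapTop_comap q F.obj (pairMap g π E E' h hw o f) _).symm
  · have e := congrArg (fun k : ((StMod.comapQ q).obj G).obj.RelSect (fpFst (ofSpMap g) π) (etaOf E') => k.1 (pairObj g π E E' h hw o) (pairArr π E E' h o)) hs'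
    refine Eq.trans ?_ (e.trans (congrArg (t.1 o.obj.left.left) ?_))
    · exact (castTop_castHom (StMod.sch_obj_eq q (pairObj g π E E' h hw o)) (u.hom.app o.obj.left.left) _).symm
    · refine Stk.EltObj.hom_ext ?_
      show eqToHom (π.w_obj o.obj.left.left) ≫ (show 𝒳.p.obj o.obj.left.left ⟶ E'.obj.left from o.obj.hom) ≫ h =
        o.obj.left.hom.hom
      rw [pair_base_eq]
      simp [StMod.baseOver]

omit E' h hw

/-- Descent of cohomological affinity given, for each etale affine scheme over the base, a flat affine cover from the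
small etale site of the source. -/
theorem isCohAffine_of_covers (h𝒳 : IsAlgStack Scheme.fppfPrecoverage 𝒳)
    (hM : IsAlgStack Scheme.fppfPrecoverage (ofSp M))
    (hqc : AlgSt.IsQuasiCompactMor Scheme.fppfPrecoverage π) (hqs : AlgSt.IsQuasiSeparatedMor π)
    (h' : StMod.IsCohAffine (fpFst (ofSpMap g) π))
    (hcov : ∀ E : AlgSp.EtOver M, IsAffine E.obj.left.left →
      ∃ (J : Type u) (E' : J → AlgSp.EtOver M') (h : ∀ j, (E' j).obj.left ⟶ E.obj.left),
        (∀ j, (E' j).obj.hom ≫ g = (AlgSp.yon S).map (h j) ≫ E.obj.hom) ∧ (∀ j, IsAffine (E' j).obj.left.left) ∧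
        (∀ j, Flat (h j).left) ∧ ∀ v, ∃ j, v ∈ Set.range (h j).left) :
    StMod.IsCohAffine π := by
  intro F G u hu E hE t
  obtain ⟨J, E', h, hw, haff, hflat, hsurj⟩ := hcov E hE
  haveI : IsAffine (sch (ofSp M) (etaOf E)) := hE
  obtain ⟨C⟩ := exists_chart_at π h𝒳 hM hqc hqs (etaOf E) hE
  exact exists_lift_of_cover h𝒳.isStack.1 u C (fun j => (E' j).obj.left) h hsurj t
    fun j => exists_pair_lift g π E (E' j) (h j) (hw j) u hu h' (haff j) t

/-- Covers from a chart of the source. -/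
theorem exists_covers {U : Over S} (p : (AlgSp.yon S).obj U ⟶ M') (hp : AlgSp.RepWith @Etale p)
    (hs : ∀ y : AlgSp.Points M, ∃ u : U.left, AlgSp.Points.ofPt (p ≫ g) u = y)
    (E : AlgSp.EtOver M)
    (hflat : ∀ (V : Over S) (k : V ⟶ E.obj.left) (v : V ⟶ U), Etale v.left →
      IsPullback ((AlgSp.yon S).map k) ((AlgSp.yon S).map v) E.obj.hom (p ≫ g) → Flat k.left) :
    ∃ (J : Type u) (E' : J → AlgSp.EtOver M') (h : ∀ j, (E' j).obj.left ⟶ E.obj.left),
      (∀ j, (E' j).obj.hom ≫ g = (AlgSp.yon S).map (h j) ≫ E.obj.hom) ∧ (∀ j, IsAffine (E' j).obj.left.left) ∧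
      (∀ j, Flat (h j).left) ∧ ∀ v, ∃ j, v ∈ Set.range (h j).left := by
  obtain ⟨V, v, fst, sq, hv⟩ := AlgSpace.repWith_exists E.property (p ≫ g)
  obtain ⟨k, rfl⟩ := (AlgSp.yon S).map_surjective fst
  have hk : Flat k.left := hflat V k v hv sq
  haveI : Etale v.left := hv
  let 𝒰 := V.left.affineOpenCover
  let W : 𝒰.I₀ → Over S := fun i => Over.mk (𝒰.f i ≫ V.hom)
  let ι : ∀ i, W i ⟶ V := fun i => Over.homMk (𝒰.f i)
  have het : ∀ i, Etale (ι i ≫ v).left := fun i => inferInstanceAs (Etale (𝒰.f i ≫ v.left))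
  refine ⟨𝒰.I₀, fun i => AlgSp.EtOver.mk ((AlgSp.yon S).map (ι i ≫ v) ≫ p)
    (AlgSpace.repWith_yon_map_comp (het i) hp), fun i => ι i ≫ k, fun i => ?_,
    fun i => inferInstanceAs (IsAffine (Spec _)), fun i => inferInstanceAs (Flat (𝒰.f i ≫ k.left)), fun e => ?_⟩
  · show ((AlgSp.yon S).map (ι i ≫ v) ≫ p) ≫ g = (AlgSp.yon S).map (ι i ≫ k) ≫ E.obj.hom
    rw [Functor.map_comp, Functor.map_comp, Category.assoc, Category.assoc, Category.assoc, sq.w]
  · obtain ⟨y, hy⟩ := hs (AlgSp.Points.ofPt E.obj.hom e)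
    obtain ⟨r, hr, -⟩ := (AlgSpace.ofPt_eq_ofPt_iff_of_isPullback sq e y).1 hy.symm
    obtain ⟨i, x, hx⟩ := 𝒰.openCover.exists_eq r
    refine ⟨i, x, ?_⟩
    exact ((Scheme.Hom.comp_apply (𝒰.f i) k.left x).trans (congrArg k.left hx)).trans hr

/-- Cohomological affinity descends along flat surjective morphisms of algebraic spaces. -/
theorem isCohAffine_of_flat_surjective {M M' : AlgSp.Space S} (g : M'.obj ⟶ M.obj) (hgf : AlgSp.LocP @Flat g)
    (hgs : AlgSp.IsSurjectiveMor g) (π : 𝒳 ⥤ᵇ ofSp M.obj) (h𝒳 : IsAlgStack Scheme.fppfPrecoverage 𝒳)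
    (hqc : AlgSt.IsQuasiCompactMor Scheme.fppfPrecoverage π) (hqs : AlgSt.IsQuasiSeparatedMor π)
    (h' : StMod.IsCohAffine (fpFst (ofSpMap g) π)) : StMod.IsCohAffine π := by
  obtain ⟨U, p, hp, hps⟩ := M'.property.atlas
  refine isCohAffine_of_covers g π h𝒳 (IsAlg.isAlgStack_ofSp M) hqc hqs h' fun E _ =>
    exists_covers g p hp (fun y => ?_) E fun V k v hv sq =>
      hgf ((AlgSp.yon S).map v ≫ p) E.obj.hom k (AlgSpace.repWith_yon_map_comp hv hp) E.property
        ((Category.assoc _ _ _).trans sq.w.symm)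
  obtain ⟨y', rfl⟩ := hgs y
  obtain ⟨u, rfl⟩ := AlgSpace.surjective_ofPt hps y'
  exact ⟨u, (AlgSp.Points.map_ofPt _ _ _).symm⟩

/-- Cohomological affinity descends along flat surjective morphisms of schemes. -/
theorem isCohAffine_of_flat_surjective_sch {M M' : Over S} (g : M' ⟶ M) [Flat g.left] [Surjective g.left]
    (π : 𝒳 ⥤ᵇ AlgSt.ofSch M) (h𝒳 : IsAlgStack Scheme.fppfPrecoverage 𝒳)
    (hqc : AlgSt.IsQuasiCompactMor Scheme.fppfPrecoverage π) (hqs : AlgSt.IsQuasiSeparatedMor π)
    (h' : StMod.IsCohAffine (fpFst (ofSpMap ((AlgSp.yon S).map g)) π)) : StMod.IsCohAffine π := by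
  refine isCohAffine_of_covers _ π h𝒳 (IsAlg.isAlgStack_ofSp ((AlgSp.ofScheme S).obj M)) hqc hqs h' fun E _ =>
    exists_covers _ (𝟙 ((AlgSp.yon S).obj M')) (AlgSp.repWith_id _ M') (fun y => ?_) E fun V k v _ sq => ?_
  · rw [Category.id_comp]
    exact AlgSpace.surjective_ofPt ((AlgSp.repWith_yon_map_iff _ _).2 (inferInstanceAs (Surjective g.left))) y
  · rw [Category.id_comp] at sq
    obtain ⟨e, he⟩ := (AlgSp.yon S).map_surjective E.obj.hom
    rw [← he] at sq
    have h2 := (AlgSpace.isPullback_of_yon_map sq).map (Over.forget S)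
    exact MorphismProperty.of_isPullback (P := @Flat) h2.flip (inferInstanceAs (Flat g.left))

end Groth.Agent.H14.CohDesc
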