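import Groth.Agent.H14.CohDesc.Core
import Groth.Agent.H14.GenFam.Transport
import Groth.Agent.Lib.AlgStack.IsAlg
import Groth.Agent.Lib.AlgSpMor.AffineDescent
import Groth.Agent.Lib.AlgSpMor.QC
import Groth.Agent.H14.Chart.QC
import Groth.Prelude.Def_StMod2

/-!
Affine morphisms to algebraic spaces are cohomologically affine.
-/

set_option autoImplicit false
set_option backward.isDefEq.respectTransparency false
set_option backward.isDefEq.respectTransparency.types false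
set_option linter.style.haveILetI false

universe u

open CategoryTheory CategoryTheory.Limits AlgebraicGeometry Opposite
open StMod (sch bmap fibCat fibFst etaOf)
open Groth.Agent.Lib Groth.Agent.Lib.AlgStack
open Groth.Agent.H14.GenFam
open FibCat (IsFibGrpd fp fpFst fpSnd overCat)
open AlgSt (IsAlgStack ofSp)

namespace Groth.Agent.H14.CohDesc

variable {S : Scheme.{u}}

/-- Over an object with affine scheme, the fibre of an affine morphism has a final object, which is affine. -/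
theorem exists_terminal {𝒳 𝒴 : AlgSt.Cat S} (hX : IsFibGrpd 𝒳.p) (hY : IsFibGrpd 𝒴.p) {f : 𝒳 ⥤ᵇ 𝒴}
    (hf : AlgSt.RepByAlgSpWith AlgSp.IsAffineMor f) (η : 𝒴.obj) (hη : IsAffine (sch 𝒴 η)) :
    ∃ x : (fibCat f η).obj, IsAffine (sch (fibCat f η) x) ∧ ∀ o, ∃ k : o ⟶ x, ∀ k', k' = k := by
  obtain ⟨κ, -⟩ := Yoneda.exists_fromObj_iso hY (rfl : 𝒴.p.obj η = 𝒴.p.obj η)
  let T := 𝒴.p.obj η
  haveI : IsAffine T.left := hη
  let y := Yoneda.fromObj hY (rfl : 𝒴.p.obj η = 𝒴.p.obj η)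
  obtain ⟨F, e, he, hP⟩ := hf T y
  have hfR := FibProd.isFibGrpd_fp (Yoneda.isFibGrpd_overCat T) hX hY (F := y) (G := f)
  obtain ⟨W, i, fst, sq, hW⟩ := hP (Z := T) hη (𝟙 _)
  have hiso : IsIso fst := sq.isIso_fst_of_isIso
  have hG : IsEqv (BasedFunctor.comp e (BasedFunctor.comp (FibProd.swap y f)
      (BasedFunctor.comp (fpToFib f y) (mapFun f κ.hom)))) :=
    (isEqv_of_isEquivOver he (StkRep.isStack_ofSp F.obj).1 hfR).comp
      ((isEqv_of_isEquivOver (FibProd.isEquivOver_swap y f) hfR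
        (FibProd.isFibGrpd_fp hX (Yoneda.isFibGrpd_overCat _) hY)).comp
        ((isEqv_fpToFib hX hY f y).comp (isEqv_mapFun f hX κ.hom)))
  let G := BasedFunctor.comp e (BasedFunctor.comp (FibProd.swap y f)
    (BasedFunctor.comp (fpToFib f y) (mapFun f κ.hom)))
  let a₀ : (ofSp F.obj).obj := ⟨W, (AlgSp.J S).uliftYonedaEquiv fst⟩
  haveI : IsAffine W.left := hW
  have haff : IsAffine (sch (ofSp F.obj) a₀) := hW
  refine ⟨G.obj a₀, isAffine_map G _ haff, fun o => ?_⟩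
  obtain ⟨a, ea, -⟩ := hG.obj o
  obtain ⟨b, hb⟩ := ((AlgSp.yon S).map_surjective ((AlgSp.J S).uliftYonedaEquiv.symm a.sec ≫ inv fst))
  have hba : F.obj.obj.map b.op a₀.sec = a.sec := by
    have h1 : (AlgSp.yon S).map b ≫ fst = (AlgSp.J S).uliftYonedaEquiv.symm a.sec := by simp [hb]
    have h2 := congrArg (AlgSp.J S).uliftYonedaEquiv h1
    rw [Equiv.apply_symm_apply] at h2
    exact ((AlgSp.J S).map_uliftYonedaEquiv fst b).trans h2
  let k₀ : a ⟶ a₀ := ⟨b, hba⟩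
  have := hG.full
  have := hG.faithful
  refine ⟨ea.inv ≫ G.map k₀, fun k' => ?_⟩
  obtain ⟨k₁, hk₁⟩ := G.toFunctor.map_surjective (ea.hom ≫ k')
  rw [Iso.eq_inv_comp, ← hk₁]
  refine congrArg G.map (Stk.EltObj.hom_ext ((AlgSp.yon S).map_injective ?_))
  rw [← cancel_mono fst]
  apply (AlgSp.J S).uliftYonedaEquiv.injective
  exact (((AlgSp.J S).map_uliftYonedaEquiv fst k₁.hom).symm.trans k₁.map_sec).trans
    (((AlgSp.J S).map_uliftYonedaEquiv fst b).symm.trans hba).symm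

/-- A lift at a final object gives a lift. -/
theorem exists_relSect_of_terminal {𝒳 𝒴 : AlgSt.Cat S} {π : 𝒳 ⥤ᵇ 𝒴} {η : 𝒴.obj} {A B : StMod.QCoh 𝒳} (u : A ⟶ B)
    (x : (fibCat π η).obj) (k : ∀ o : (fibCat π η).obj, o ⟶ x) (hk : ∀ o (k' : o ⟶ x), k' = k o)
    (t : B.obj.RelSect π η) (s₀ : Γ(A.obj.obj x.left, ⊤))
    (hs₀ : (u.hom.app x.left).app ⊤ s₀ = t.1 x.left x.hom) :
    ∃ s : A.obj.RelSect π η, StMod.Mod.relSectMap π u.hom η s = t := by
  let A' : StMod.QCoh (fibCat π η) := (StMod.comapQ (fibFst π η)).obj A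
  let σ : ∀ o : (fibCat π η).obj, Γ(A.obj.obj o.left, ⊤) := fun o => A'.obj.mapTop (k o) s₀
  have hσ : ∀ {o' o : (fibCat π η).obj} (f : o' ⟶ o), A.obj.mapTop f.left (σ o) = σ o' := fun {o' o} f => by
    refine (mapTop_fib (F := A.obj) f (σ o)).symm.trans ?_
    refine (StMod.Mod.mapTop_comp A'.obj f (k o) s₀).symm.trans ?_
    exact congrArg (fun l : o' ⟶ x => A'.obj.mapTop l s₀) (hk o' (f ≫ k o))
  refine ⟨⟨fun ξ α => σ (CostructuredArrow.mk α), fun ξ' ξ φ α => hσ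
    (o' := CostructuredArrow.mk (π.map φ ≫ α)) (o := CostructuredArrow.mk α) (CostructuredArrow.homMk φ rfl)⟩, ?_⟩
  refine StMod.Mod.RelSect.ext _ _ _ fun ξ α => ?_
  refine (congrArg ((u.hom.app ξ).app ⊤) (mapTop_fib (F := A.obj) (k (CostructuredArrow.mk α)) s₀)).trans ?_
  exact ((StMod.Mod.mapTop_app u.hom (k (CostructuredArrow.mk α)).left s₀).symm.trans
    ((congrArg _ hs₀).trans (relSect_mapTop t (k (CostructuredArrow.mk α)))))

/-- Affine morphisms to algebraic spaces are cohomologically affine. -/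
theorem isCohAffine_of_affine {𝒳 : AlgSt.Cat S} (h𝒳 : IsAlgStack Scheme.fppfPrecoverage 𝒳) (M : AlgSp.Space S)
    (π : 𝒳 ⥤ᵇ ofSp M.obj) (hπ : AlgSt.RepByAlgSpWith AlgSp.IsAffineMor π) :
    StMod.IsCohAffine π ∧ AlgSt.IsQuasiCompactMor Scheme.fppfPrecoverage π := by
  have hM := IsAlg.isAlgStack_ofSp M
  have hX := h𝒳.isStack.1
  refine ⟨fun A B u hu E hE t => ?_, ?_⟩
  · obtain ⟨x, hx, hk⟩ := exists_terminal hX hM.isStack.1 hπ (etaOf E) hE
    choose k hk using hk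
    obtain ⟨s₀, hs₀⟩ := hu x.left hx (t.1 x.left x.hom)
    exact exists_relSect_of_terminal u x k hk t s₀ hs₀
  · refine (H14.Chart.QC.repByAlgSpWith_qc_iff h𝒳 hM (Rep.repByAlgSp1_of_repByAlgSpWith hπ)).1
      (Rep.repByAlgSpWith_mono hπ fun _ _ _ _ _ h => ?_)
    exact AlgSpMor.QC.isQuasiCompactMor_of_repWith (AlgSpace.repWith_mono
      (AlgSpMor.AffineDescent.repWith_of_isAffineMor h) fun _ _ g (_ : IsAffineHom g) => (inferInstance : QuasiCompact g))

end Groth.Agent.H14.CohDesc
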