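import Groth.Agent.H14.CohDesc.Descend

/-!
Bijectivity of the unit of a direct image descends along flat surjective morphisms of the base.
-/

set_option autoImplicit false
set_option backward.isDefEq.respectTransparency false
set_option backward.isDefEq.respectTransparency.types false
set_option linter.style.haveILetI false

universe u

open CategoryTheory CategoryTheory.Limits AlgebraicGeometry Opposite TensorProduct
open StMod (sch bmap fibCat fibFst etaOf baseOver)
open Groth.Agent.Lib Groth.Agent.Lib.AlgStack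
open Groth.Agent.H14.ModDesc
open Groth.Agent.H14.AffPush
open Groth.Agent.H14.GenFam
open FibCat (IsFibGrpd fp fpFst fpSnd)
open AlgSt (IsAlgStack ofSp ofSpMap)

namespace Groth.Agent.H14.CohDesc

variable {S : Scheme.{u}}

set_option maxHeartbeats 1600000 in
/-- Sections of a direct image agreeing at a chart agree. -/
theorem relSect_ext_of_chart {𝒳 𝒴 : AlgSt.Cat S} {π : 𝒳 ⥤ᵇ 𝒴} {η : 𝒴.obj} (hX : IsFibGrpd 𝒳.p)
    {G : StMod.QCoh 𝒳} (C : Chart (fibCat π η)) (t t' : G.obj.RelSect π η)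
    (h : t.1 C.x.left C.x.hom = t'.1 C.x.left C.x.hom) : t = t' := by
  have hfib := isFibGrpd_fibCat hX π η
  let G' : StMod.QCoh (fibCat π η) := (StMod.comapQ (fibFst π η)).obj G
  have haff : ∀ (o : (fibCat π η).obj), IsAffine (sch (fibCat π η) o) →
      @Eq Γ(G.obj.obj o.left, ⊤) (t.1 o.left o.hom) (t'.1 o.left o.hom) := fun o ho => by
    obtain ⟨n, D, hD⟩ := C.cover o ho
    refine D.eq_of_mapTop G' fun j => (mapTop_fib (F := G.obj) _ _).trans
      (Eq.trans ?_ (mapTop_fib (F := G.obj) _ _).symm)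
    rw [relSect_mapTop t, relSect_mapTop t', ← relSect_mapTop t (hD j).some, ← relSect_mapTop t' (hD j).some]
    exact congrArg _ h
  refine StMod.Mod.RelSect.ext _ _ _ fun ξ α => ?_
  refine sect_ext hfib G' (x := CostructuredArrow.mk α) fun o f ho => (mapTop_fib (F := G.obj) f _).trans
    (Eq.trans ?_ (mapTop_fib (F := G.obj) f _).symm)
  exact (relSect_mapTop t f).trans ((haff o ho).trans (relSect_mapTop t' f).symm)

theorem appTop_comp_apply {X Y Z : Scheme.{u}} (a : X ⟶ Y) (b : Y ⟶ Z) (r : Γ(Z, ⊤)) :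
    a.appTop (b.appTop r) = (a ≫ b).appTop r := by
  rw [Scheme.Hom.comp_appTop]
  rfl

theorem eqToHom_swap {X X' T T' : Scheme.{u}} {hX : X = T} {hX' : X' = T'} {a : X' ⟶ X} {b : T' ⟶ T}
    (h : a ≫ eqToHom hX = eqToHom hX' ≫ b) : b ≫ eqToHom hX.symm = eqToHom hX'.symm ≫ a := by
  subst hX hX'
  simpa using h.symm

variable {𝒳 : AlgSt.Cat S} {M M' : AlgSp.Sp S} (g : M' ⟶ M) (π : 𝒳 ⥤ᵇ ofSp M)
  (E : AlgSp.EtOver M) (E' : AlgSp.EtOver M') (h : E'.obj.left ⟶ E.obj.left)
  (hw : E'.obj.hom ≫ g = (AlgSp.yon S).map h ≫ E.obj.hom)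

/-- The morphism to the base under an object of the 2-fibre product over a member of the cover. -/
noncomputable def downArr (P : (fp (ofSpMap g) π).obj) (α : P.obj.fst ⟶ etaOf E') : π.obj P.obj.snd ⟶ etaOf E :=
  P.obj.iso.inv ≫ (ofSpMap g).map α ≫ etaMap g E E' h hw

theorem base_downArr (P : (fp (ofSpMap g) π).obj) (α : P.obj.fst ⟶ etaOf E') :
    (baseOver (fpFst (ofSpMap g) π) P α).left ≫ h.left =
      eqToHom (StMod.sch_obj_eq (fpSnd (ofSpMap g) π) P).symm ≫
        (baseOver π P.obj.snd (downArr g π E E' h hw P α)).left := by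
  have hp : (ofSp M).p.IsHomLift (𝟙 (P.obj.fst.base)) P.obj.iso.hom := P.property
  have h1 : P.obj.iso.hom.hom = eqToHom (IsHomLift.codomain_eq (ofSp M).p (𝟙 (P.obj.fst.base)) P.obj.iso.hom).symm := by
    have := IsHomLift.fac' (ofSp M).p (𝟙 (P.obj.fst.base)) P.obj.iso.hom
    simp only [Category.id_comp, eqToHom_trans] at this
    exact this
  have h2 : P.obj.iso.inv.hom = eqToHom (IsHomLift.codomain_eq (ofSp M).p (𝟙 (P.obj.fst.base)) P.obj.iso.hom) := by
    have e : P.obj.iso.inv.hom ≫ P.obj.iso.hom.hom = 𝟙 _ :=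
      congrArg Stk.EltObj.Hom.hom P.obj.iso.inv_hom_id
    rw [h1, comp_eqToHom_iff] at e
    simpa using e
  show (eqToHom _ ≫ α.hom).left ≫ h.left = _ ≫ (eqToHom (π.w_obj P.obj.snd).symm ≫
    (P.obj.iso.inv ≫ (ofSpMap g).map α ≫ etaMap g E E' h hw).hom).left
  rw [Stk.EltObj.comp_hom, h2]
  show (eqToHom _ ≫ α.hom).left ≫ h.left = _ ≫ (eqToHom _ ≫ eqToHom _ ≫ α.hom ≫ h).left
  simp only [Over.comp_left, Over.eqToHom_left, Category.assoc]
  rw [← Category.assoc (eqToHom _) (eqToHom _), eqToHom_trans, ← Category.assoc (eqToHom _) (eqToHom _),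
    eqToHom_trans]

/-- A section of the structure sheaf over an object of the cover from one over the base. -/
noncomputable def downSect (t : (StMod.O 𝒳).RelSect π (etaOf E)) :
    (StMod.O (fp (ofSpMap g) π)).RelSect (fpFst (ofSpMap g) π) (etaOf E') :=
  ⟨fun P α => (eqToHom (StMod.sch_obj_eq (fpSnd (ofSpMap g) π) P).symm).appTop
      (show Γ(sch 𝒳 P.obj.snd, ⊤) from t.1 P.obj.snd (downArr g π E E' h hw P α)), fun P' P φ α => by
    have hc : bmap (fp (ofSpMap g) π) φ ≫ eqToHom (StMod.sch_obj_eq (fpSnd (ofSpMap g) π) P).symm =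
        eqToHom (StMod.sch_obj_eq (fpSnd (ofSpMap g) π) P').symm ≫ bmap 𝒳 φ.hom.snd := by
      exact eqToHom_swap (StMod.bmap_map_comm (fpSnd (ofSpMap g) π) φ rfl)
    refine (appTop_comp_apply _ _ _).trans ?_
    rw [hc]
    refine (appTop_comp_apply _ _ _).symm.trans ?_
    refine congrArg (eqToHom (StMod.sch_obj_eq (fpSnd (ofSpMap g) π) P').symm).appTop
      ((t.2 φ.hom.snd _).trans (congrArg (t.1 P'.obj.snd) ?_))
    show π.map φ.hom.snd ≫ P.obj.iso.inv ≫ (ofSpMap g).map α ≫ etaMap g E E' h hw =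
      P'.obj.iso.inv ≫ (ofSpMap g).map (φ.hom.fst ≫ α) ≫ etaMap g E E' h hw
    rw [Functor.map_comp, Category.assoc, ← Category.assoc]
    conv_rhs => rw [← Category.assoc]
    congr 1
    rw [Iso.eq_inv_comp, ← Category.assoc, Iso.comp_inv_eq]
    exact φ.hom.w.symm⟩

include hw in
theorem unitSect_eq_zero (r : Γ(sch (ofSp M) (etaOf E), ⊤)) (hr : StMod.unitSect π (etaOf E) r = 0) :
    StMod.unitSect (fpFst (ofSpMap g) π) (etaOf E') (h.left.appTop r) = 0 := by
  refine StMod.Mod.RelSect.ext _ _ _ fun P α => ?_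
  show (baseOver (fpFst (ofSpMap g) π) P α).left.appTop (h.left.appTop r) = _
  refine (appTop_comp_apply _ _ _).trans ?_
  rw [base_downArr g π E E' h hw P α]
  refine (appTop_comp_apply _ _ _).symm.trans ?_
  have e := congrArg (fun k : (StMod.O 𝒳).RelSect π (etaOf E) => k.1 P.obj.snd (downArr g π E E' h hw P α)) hr
  refine (congrArg (eqToHom (StMod.sch_obj_eq (fpSnd (ofSpMap g) π) P).symm).appTop e).trans ?_
  exact map_zero _

include hw in
/-- A section which comes from the unit over the member of the cover is, at a lift, a function from the member. -/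
theorem exists_downUnit (h' : StMod.UnitIsIso (fpFst (ofSpMap g) π)) (t : (StMod.O 𝒳).RelSect π (etaOf E)) :
    ∃ r : Γ(E'.obj.left.left, ⊤), ∀ o : (cat (baseFun π (etaOf E)) h).obj,
      (show Γ(sch 𝒳 o.obj.left.left, ⊤) from t.1 o.obj.left.left o.obj.left.hom) =
        (show 𝒳.p.obj o.obj.left.left ⟶ E'.obj.left from o.obj.hom).left.appTop r := by
  obtain ⟨r, hr⟩ := (h' E').2 (downSect g π E E' h hw t)
  refine ⟨r, fun o => ?_⟩
  have e := congrArg (fun k : (StMod.O (fp (ofSpMap g) π)).RelSect (fpFst (ofSpMap g) π) (etaOf E') =>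
    k.1 (pairObj g π E E' h hw o) (pairArr π E E' h o)) hr
  change (baseOver (fpFst (ofSpMap g) π) (pairObj g π E E' h hw o) (pairArr π E E' h o)).left.appTop r =
    (eqToHom (StMod.sch_obj_eq (fpSnd (ofSpMap g) π) (pairObj g π E E' h hw o)).symm).appTop _ at e
  have hA : downArr g π E E' h hw (pairObj g π E E' h hw o) (pairArr π E E' h o) = o.obj.left.hom := by
    refine Stk.EltObj.hom_ext ?_
    show eqToHom (π.w_obj o.obj.left.left) ≫ (show 𝒳.p.obj o.obj.left.left ⟶ E'.obj.left from o.obj.hom) ≫ h =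
      o.obj.left.hom.hom
    rw [pair_base_eq]
    simp [StMod.baseOver]
  rw [hA] at e
  refine Eq.trans ?_ (e.symm.trans ?_)
  · refine Eq.trans ?_ (congrArg (fun k : sch 𝒳 o.obj.left.left ⟶ sch 𝒳 o.obj.left.left =>
      k.appTop (show Γ(sch 𝒳 o.obj.left.left, ⊤) from t.1 o.obj.left.left o.obj.left.hom))
      (eqToHom_refl _ rfl).symm)
    show _ = (Scheme.Hom.appTop (𝟙 (sch 𝒳 o.obj.left.left))).hom _
    rw [Scheme.Hom.id_appTop]
    rfl
  · show (eqToHom _ ≫ (show 𝒳.p.obj o.obj.left.left ⟶ E'.obj.left from o.obj.hom)).left.appTop r = _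
    simp
    rfl

omit E' h hw

/-- Descent of bijectivity of the unit, given covers from the small etale site of the source. -/
theorem unitBijective_of_covers (h𝒳 : IsAlgStack Scheme.fppfPrecoverage 𝒳)
    (hM : IsAlgStack Scheme.fppfPrecoverage (ofSp M))
    (hqc : AlgSt.IsQuasiCompactMor Scheme.fppfPrecoverage π) (hqs : AlgSt.IsQuasiSeparatedMor π)
    (h' : StMod.UnitIsIso (fpFst (ofSpMap g) π)) (hE : IsAffine E.obj.left.left)
    {J : Type u} (E' : J → AlgSp.EtOver M') (h : ∀ j, (E' j).obj.left ⟶ E.obj.left)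
    (hw : ∀ j, (E' j).obj.hom ≫ g = (AlgSp.yon S).map (h j) ≫ E.obj.hom)
    (haff : ∀ j, IsAffine (E' j).obj.left.left) (hflat : ∀ j, Flat (h j).left)
    (hsurj : ∀ v, ∃ j, v ∈ Set.range (h j).left) :
    Function.Bijective (StMod.unitSect π (etaOf E)) := by
  classical
  let A := Γ(E.obj.left.left, ⊤)
  let B : J → Type u := fun j => Γ((E' j).obj.left.left, ⊤)
  letI : ∀ j, Algebra A (B j) := fun j => (h j).left.appTop.hom.toAlgebra
  haveI : ∀ j, Module.Flat A (B j) := fun j => flat_appTop (h j).left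
  have hB : Groth.Agent.H14.GerbeDesc.JointlySurj A B := jointlySurj_appTop (fun j => (h j).left) (fun j => rfl) hsurj
  refine ⟨(injective_iff_map_eq_zero _).2 fun (r : A) hr => ?_, fun t => ?_⟩
  · refine eq_zero_of_one_tmul B hB (M := A) r fun j => ?_
    have e : (h j).left.appTop r = 0 := (h' (E' j)).1
      ((unitSect_eq_zero g π E (E' j) (h j) (hw j) r hr).trans (map_zero _).symm)
    have e2 : algebraMap A (B j) r = 0 := e
    calc (1 : B j) ⊗ₜ[A] (r : A) = (1 : B j) ⊗ₜ[A] (r • (1 : A)) := by rw [smul_eq_mul, mul_one]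
      _ = (r • (1 : B j)) ⊗ₜ[A] (1 : A) := (TensorProduct.smul_tmul _ _ _).symm
      _ = 0 := by rw [Algebra.smul_def, e2, zero_mul, zero_tmul]
  have hX := h𝒳.isStack.1
  haveI : IsAffine (sch (ofSp M) (etaOf E)) := hE
  haveI : IsAffine ((ofSp M).p.obj (etaOf E)).left := hE
  obtain ⟨C⟩ := exists_chart_at π h𝒳 hM hqc hqs (etaOf E) hE
  have hfib := isFibGrpd_fibCat hX π (etaOf E)
  let st : A →+* Γ(sch (fibCat π (etaOf E)) C.x, ⊤) := (str (baseFun π (etaOf E)) C.x).left.appTop.hom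
  let mA : Module A Γ(sch (fibCat π (etaOf E)) C.x, ⊤) := Module.compHom _ st
  let L : Submodule A Γ(sch (fibCat π (etaOf E)) C.x, ⊤) := Submodule.span A {1}
  have hL : (show Γ(sch (fibCat π (etaOf E)) C.x, ⊤) from t.1 C.x.left C.x.hom) ∈ L := by
    rw [← Submodule.Quotient.mk_eq_zero]
    refine eq_zero_of_one_tmul B hB _ fun j => ?_
    obtain ⟨r, hr⟩ := exists_downUnit g π E (E' j) (h j) (hw j) h' t
    let ux := up (π := baseFun π (etaOf E)) (g := h j) hfib C.x
    haveI : IsAffine (E' j).obj.left.left := haff j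
    haveI : Flat (h j).left := hflat j
    have : IsAffine (sch (fibCat π (etaOf E)) ux.obj.left) := isAffine_up (π := baseFun π (etaOf E)) (g := h j) hfib C.x
    let stB : B j →+* Γ(sch (fibCat π (etaOf E)) ux.obj.left, ⊤) := ux.obj.hom.left.appTop.hom
    let mB : Module (B j) Γ(sch (fibCat π (etaOf E)) ux.obj.left, ⊤) := Module.compHom _ stB
    let ε := eps (π := baseFun π (etaOf E)) (g := h j) hfib C.x
    have hbc : @IsBC A (B j) _ _ _ _ _ mA _ mB (algebraMap A (B j))
        (mapHom (StMod.OQ (fibCat π (etaOf E))).obj ε) :=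
      isBC_of_isPushout (Lib.ZeroCyc99.FlatLocalAffine.isPushout_appTop
        (isPullback_eps (π := baseFun π (etaOf E)) (g := h j) hfib C.x)).flip
        (mA := mA) (mB := mB) (fun _ _ => rfl) (fun _ _ => rfl) (isBC_mapHom (StMod.OQ (fibCat π (etaOf E))) ε)
    obtain ⟨Φ, hΦ⟩ := bc_extend (M := Γ(sch (fibCat π (etaOf E)) C.x, ⊤))
      (N := Γ(sch (fibCat π (etaOf E)) ux.obj.left, ⊤)) (N' := B j ⊗[A] (Γ(sch (fibCat π (etaOf E)) C.x, ⊤) ⧸ L))
      hbc ((TensorProduct.mk A (B j) _ 1).comp L.mkQ).toAddMonoidHom (fun a z => by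
        show (1 : B j) ⊗ₜ[A] L.mkQ (a • z) = algebraMap A (B j) a • ((1 : B j) ⊗ₜ[A] L.mkQ z)
        rw [map_smul, tmul_smul, algebraMap_smul])
    have h1 : Φ 1 = 0 := by
      refine (congrArg Φ (map_one (bmap (fibCat π (etaOf E)) ε).appTop.hom).symm).trans ((hΦ 1).trans ?_)
      show (1 : B j) ⊗ₜ[A] L.mkQ _ = 0
      rw [Submodule.mkQ_apply, (Submodule.Quotient.mk_eq_zero L).2 (Submodule.subset_span rfl), tmul_zero]
    have e : (bmap (fibCat π (etaOf E)) ε).appTop (show Γ(sch (fibCat π (etaOf E)) C.x, ⊤) from t.1 C.x.left C.x.hom) =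
        (show B j from r) • (1 : Γ(sch (fibCat π (etaOf E)) ux.obj.left, ⊤)) :=
      ((relSect_mapTop t ε).trans (hr ux)).trans (mul_one (M := Γ(sch (fibCat π (etaOf E)) ux.obj.left, ⊤)) _).symm
    refine (hΦ _).symm.trans ?_
    refine (congrArg Φ e).trans ?_
    rw [map_smul, h1, smul_zero]
  obtain ⟨r, hr⟩ := Submodule.mem_span_singleton.1 hL
  refine ⟨r, relSect_ext_of_chart hX (G := StMod.OQ 𝒳) C _ t ?_⟩
  refine Eq.trans ?_ hr
  refine Eq.trans ?_ (mul_one (M := Γ(sch (fibCat π (etaOf E)) C.x, ⊤)) _).symm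
  exact congrArg (fun k : 𝒳.p.obj C.x.left ⟶ (ofSp M).p.obj (etaOf E) => k.left.appTop r)
    (str_baseFun π (etaOf E) C.x).symm

end Groth.Agent.H14.CohDesc
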